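import Groth.Agent.ModX56.FibreRank
import Mathlib.AlgebraicGeometry.AlgClosed.Basic
import Mathlib.RingTheory.Etale.Field
import Groth.Prelude.Def_ModelsG

/-!
# Fibre cardinality of finite unramified morphisms of regular varieties
-/

set_option autoImplicit false
set_option linter.style.haveILetI false

universe u

open CategoryTheory CategoryTheory.Limits AlgebraicGeometry

namespace Groth.Agent.MiscTwoH99.FibCard

set_option backward.isDefEq.respectTransparency false in
theorem card_carrier {k : Type u} [Field k] [IsAlgClosed k] {N : Scheme.{u}} (q : N ⟶ Spec (CommRingCat.of k)) [IsFinite q] [Etale q] (y : Spec (CommRingCat.of k)) :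
    Nat.card N = Scheme.Hom.finrank q y := by
  haveI : IsAffine N := isAffine_of_isAffineHom q
  obtain ⟨φ, hφ⟩ := Spec.map_surjective (N.isoSpec.inv ≫ q)
  let C := Γ(N, ⊤)
  letI : Algebra k C := φ.hom.toAlgebra
  have h1 : IsFinite (Spec.map φ) := by rw [hφ]; infer_instance
  have h2 : Etale (Spec.map φ) := by rw [hφ]; infer_instance
  haveI : Module.Finite k C := by rw [IsFinite.SpecMap_iff] at h1; exact h1
  haveI : Algebra.Etale k C := by
    rw [HasRingHomProperty.Spec_iff (P := @Etale)] at h2; exact h2
  let e := Algebra.FormallyEtale.equivPiOfIsSepClosed k C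
  haveI : IsArtinianRing C := IsArtinianRing.of_finite k C
  haveI : Fintype (PrimeSpectrum C) := Fintype.ofFinite _
  rw [Nat.card_congr N.isoSpec.schemeIsoToHomeo.toEquiv, ← Scheme.Hom.finrank_comp_left_of_isIso N.isoSpec.inv q, ← hφ]
  change Nat.card (PrimeSpectrum C) = Scheme.Hom.finrank (Spec.map (CommRingCat.ofHom (algebraMap k C))) y
  rw [Scheme.Hom.finrank_SpecMap_algebraMap, Module.rankAtStalk_eq_finrank_of_free, Pi.natCast_apply,
    e.toLinearEquiv.finrank_eq, Module.finrank_pi, Nat.card_eq_fintype_card]
  rfl

theorem isIso_stalkSpecializes_of_eq {X : Scheme.{u}} {a b : X} (h : a = b) :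
    IsIso (X.presheaf.stalkSpecializes (specializes_of_eq h)) := by
  subst h
  rw [TopCat.Presheaf.stalkSpecializes_refl]
  infer_instance

theorem homDegree_eq_residue {X Y : Scheme.{u}} [IsIntegral X] [IsIntegral Y] (π : Y ⟶ X)
    (e : π (genericPoint Y) = genericPoint X) :
    Models.homDegree (X.presheaf.stalkSpecializes (specializes_of_eq e) ≫ π.stalkMap (genericPoint Y)).hom =
      (letI := (π.residueFieldMap (genericPoint Y)).hom.toAlgebra;
        Module.finrank (X.residueField (π (genericPoint Y))) (Y.residueField (genericPoint Y))) := by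
  let ξ := genericPoint Y
  haveI := isIso_stalkSpecializes_of_eq (X := X) e
  let i : X.presheaf.stalk (genericPoint X) ⟶ X.residueField (π ξ) :=
    X.presheaf.stalkSpecializes (specializes_of_eq e) ≫ X.residue (π ξ)
  let j : Y.presheaf.stalk ξ ⟶ Y.residueField ξ := Y.residue ξ
  letI : Field (X.presheaf.stalk (genericPoint X)) := inferInstanceAs (Field X.functionField)
  letI : Field (Y.presheaf.stalk ξ) := inferInstanceAs (Field Y.functionField)
  have hi : Function.Bijective i.hom := by
    refine ⟨RingHom.injective i.hom, fun z => ?_⟩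
    obtain ⟨w, hw⟩ := Scheme.residue_surjective X (π ξ) z
    obtain ⟨v, hv⟩ := (ConcreteCategory.bijective_of_isIso
      (X.presheaf.stalkSpecializes (specializes_of_eq e))).2 w
    exact ⟨v, (congrArg (X.residue (π ξ)) hv).trans hw⟩
  have hj : Function.Bijective j.hom := ⟨RingHom.injective j.hom, Scheme.residue_surjective Y ξ⟩
  unfold Models.homDegree
  letI := (X.presheaf.stalkSpecializes (specializes_of_eq e) ≫ π.stalkMap ξ).hom.toAlgebra
  letI := (π.residueFieldMap ξ).hom.toAlgebra
  refine Algebra.finrank_eq_of_equiv_equiv (RingEquiv.ofBijective i.hom hi) (RingEquiv.ofBijective j.hom hj) ?_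
  refine RingHom.ext fun a => ?_
  show (i ≫ π.residueFieldMap ξ).hom a = ((X.presheaf.stalkSpecializes (specializes_of_eq e) ≫ π.stalkMap ξ) ≫ j).hom a
  have : i ≫ π.residueFieldMap ξ = (X.presheaf.stalkSpecializes (specializes_of_eq e) ≫ π.stalkMap ξ) ≫ j := by
    simp only [i, j, Category.assoc]
    rw [Scheme.residue_residueFieldMap]
  rw [this]

theorem natCard_fibre_eq {k : Type u} [Field k] [IsAlgClosed k] {X Y : Scheme.{u}} [IsIntegral X] [IsIntegral Y]
    (sX : X ⟶ Spec (CommRingCat.of k)) [LocallyOfFiniteType sX] (π : Y ⟶ X) [IsFinite π] [Surjective π]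
    [FormallyUnramified π] (hX : ∀ x : X, IsRegularLocalRing (X.presheaf.stalk x))
    (hY : ∀ y : Y, IsRegularLocalRing (Y.presheaf.stalk y)) (p : X) (hp : IsClosed ({p} : Set X)) :
    Nat.card {q : Y // π q = p} =
      (letI := (π.residueFieldMap (genericPoint Y)).hom.toAlgebra;
        Module.finrank (X.residueField (π (genericPoint Y))) (Y.residueField (genericPoint Y))) := by
  haveI : IsLocallyNoetherian X := LocallyOfFiniteType.isLocallyNoetherian sX
  haveI := LocallyOfFiniteType.isLocallyNoetherian π
  have hdisc : ∀ y : Y, IsOpen ({π.asFiber y} : Set (π.fiber (π y))) := by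
    intro y
    haveI : IsFinite (π.fiberToSpecResidueField (π y)) := MorphismProperty.pullback_snd _ _ inferInstance
    haveI : DiscreteTopology ↥(π.fiber (π y)) := by
      haveI : Subsingleton ↥(Spec (X.residueField (π y))) := inferInstanceAs (Subsingleton (PrimeSpectrum _))
      have h := (π.fiberToSpecResidueField (π y)).isDiscrete_preimage_singleton
        (π.fiberToSpecResidueField (π y) (π.asFiber y))
      have e : (π.fiberToSpecResidueField (π y)) ⁻¹' {π.fiberToSpecResidueField (π y) (π.asFiber y)} = Set.univ :=
        Set.eq_univ_of_forall fun a => Subsingleton.elim _ _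
      exact isDiscrete_univ_iff.1 (e ▸ h)
    exact isOpen_discrete _
  haveI : IsDominant π := ⟨π.surjective.denseRange⟩
  have h0 : FibDim.rd π (genericPoint Y) = 0 :=
    (ModX56.rd_eq_zero_of_isOpen_singleton π (hdisc _)).1
  haveI : Flat π := by
    rw [Flat.iff_flat_stalkMap]
    exact fun y => (ModX56.flat_and_quasiFiniteAt_of_isolated sX π h0 (hY y) (hX _) (hdisc y)).1
  haveI := ModX56.lfp_of_isLocallyNoetherian π
  haveI : Etale π := Etale.of_formallyUnramified_of_flat π
  haveI : IsAlgClosed (X.residueField p) :=
    IsAlgClosed.of_ringEquiv k _ (residueFieldIsoBase sX p hp).symm.commRingCatIsoToRingEquiv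
  have key : ∀ x : X, (letI := ((Scheme.ΓSpecIso (X.residueField x)).inv ≫
        (pullback.snd π (X.fromSpecResidueField x)).appTop).hom.toAlgebra;
      Module.finrank (X.residueField x) Γ(pullback π (X.fromSpecResidueField x), ⊤)) = π.finrank x := by
    intro x
    rw [ModX56.finrank_sections_of_isFinite (Field.toIsField _) _ (IsLocalRing.closedPoint _),
      Scheme.Hom.finrank_pullback_snd]
    exact congrArg _ ((Scheme.range_fromSpecResidueField x).le ⟨_, rfl⟩)
  calc Nat.card {q : Y // π q = p} = Nat.card ↥(π.fiber p) :=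
        (Nat.card_congr (π.fiberHomeo p).toEquiv).symm
    _ = (π.fiberToSpecResidueField p).finrank (IsLocalRing.closedPoint (X.residueField p)) := by
        haveI : IsFinite (π.fiberToSpecResidueField p) := MorphismProperty.pullback_snd _ _ inferInstance
        haveI : Etale (π.fiberToSpecResidueField p) := MorphismProperty.pullback_snd _ _ inferInstance
        exact card_carrier (k := X.residueField p) (π.fiberToSpecResidueField p) _
    _ = π.finrank p := by
        show (pullback.snd π (X.fromSpecResidueField p)).finrank _ = _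
        rw [Scheme.Hom.finrank_pullback_snd]
        exact congrArg _ ((Scheme.range_fromSpecResidueField p).le ⟨_, rfl⟩)
    _ = π.finrank (π (genericPoint Y)) := π.isLocallyConstant_finrank.apply_eq_of_preconnectedSpace _ _
    _ = _ := (key _).symm.trans (ModX56.finrank_fibre_genericPoint π h0)

end Groth.Agent.MiscTwoH99.FibCard
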